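import Cfsg.Agent.Omega.SQK.Rank
import Cfsg.Agent.J3.Elts

/-!
`J₃` has `3`-rank at least 3: the images of the diagonal matrices `A_Z E_0^k` of `3·J₃`.
-/

set_option autoImplicit false

namespace Cfsg.Agent.Omega.SQK.J3Row

open Cfsg Cfsg.Spor Cfsg.Agent.Omega.SQK.Rank Cfsg.Agent.J3.Core Cfsg.Agent.J3.Elts Matrix

variable {F : Type*} [Field F] {ω : F}

theorem omegaPow_add (H : Good ω) (a b : ZMod 3) :
    omegaPow F ω (a + b) = omegaPow F ω a * omegaPow F ω b := by
  unfold omegaPow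
  rw [← pow_add, ZMod.val_add, ← pow_mod_orderOf ω (a.val + b.val)]
  have h3 : orderOf ω ∣ 3 := orderOf_dvd_of_pow_eq_one H.cube
  rw [← pow_mod_orderOf, Nat.mod_mod_of_dvd _ h3]

theorem omegaPow_zero : omegaPow F ω 0 = 1 := by
  unfold omegaPow
  rw [ZMod.val_zero, pow_zero]

theorem omegaPow_eq_one (H : Good ω) {a : ZMod 3} (h : omegaPow F ω a = 1) : a = 0 := by
  unfold omegaPow at h
  have h0 := H.ne_one
  have h1 := H.sq
  have hne := H.ne_zero
  fin_cases a
  · rfl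
  · exfalso
    have h2 : ω ^ 1 = 1 := h
    exact h0 (by rwa [pow_one] at h2)
  · exfalso
    have h2 : ω ^ 2 = 1 := h
    rw [h1] at h2
    apply hne
    linear_combination h2

/-- the exponent -/
def ex (v : Fin 3 → ZMod 3) (z : F9) : ZMod 3 := v 0 * z.1 + v 1 * z.2 + v 2 * (z.1 ^ 2 + z.2 ^ 2)

theorem ex_add (v w : Fin 3 → ZMod 3) (z : F9) : ex (v + w) z = ex v z + ex w z := by
  unfold ex
  rw [Pi.add_apply, Pi.add_apply, Pi.add_apply]
  ring

/-- the diagonal matrix -/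
def dg (ω : F) (v : Fin 3 → ZMod 3) : Matrix F9 F9 F := diagonal fun z => omegaPow F ω (ex v z)

theorem dg_add (H : Good ω) (v w : Fin 3 → ZMod 3) : dg ω (v + w) = dg ω v * dg ω w := by
  unfold dg
  rw [diagonal_mul_diagonal]
  congr 1
  funext z
  rw [ex_add, omegaPow_add H]

theorem dg_pow (H : Good ω) (v : Fin 3 → ZMod 3) (n : ℕ) : dg ω (n • v) = dg ω v ^ n := by
  induction n with
  | zero =>
    rw [zero_smul, pow_zero]
    unfold dg ex
    simp [omegaPow_zero]
  | succ n ih => rw [succ_nsmul, dg_add H, ih, pow_succ]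

theorem exists_el (H : Good ω) (G : Gens F ω) (v : Fin 3 → ZMod 3) :
    ∃ g : threeJ3 F ω, mat ω g = dg ω v := by
  refine ⟨G.a (v 0, v 1) * G.e ^ (v 2).val, ?_⟩
  rw [map_mul, map_pow, G.ha, G.he]
  have h1 : j3A F ω (v 0, v 1) = dg ω ![v 0, v 1, 0] := by
    unfold j3A dg ex
    simp
  have h2 : j3E F ω 0 = dg ω ![0, 0, 1] := by
    unfold j3E dg ex
    simp
  rw [h1, h2, ← dg_pow H, ← dg_add H]
  congr 1
  funext i
  fin_cases i <;> simp

theorem dg_comm (H : Good ω) {v : Fin 3 → ZMod 3} (h : ∀ W, dg ω v * j3D F ω W = j3D F ω W * dg ω v) :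
    v = 0 := by
  have key : ∀ W : F9, ex v W = 0 := by
    intro W
    have h1 := congrFun (congrFun (h W) W) 0
    unfold dg at h1
    rw [diagonal_mul, mul_diagonal] at h1
    have h2 : j3D F ω W W 0 = 1 := by
      unfold j3D j3Lam
      simp
    rw [h2, mul_one, one_mul] at h1
    have h3 : ex v 0 = 0 := by
      unfold ex
      simp
    rw [h3, omegaPow_zero] at h1
    exact omegaPow_eq_one H h1
  have h1 := key (1, 0)
  have h2 := key (-1, 0)
  have h3 := key (0, 1)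
  have h4 := key (0, -1)
  unfold ex at h1 h2 h3 h4
  clear h key
  generalize e0 : v 0 = a at *
  generalize e1 : v 1 = b at *
  generalize e2 : v 2 = c at *
  have hh : ∀ a b c : ZMod 3, a * ((1, 0) : F9).1 + b * ((1, 0) : F9).2 + c * (((1, 0) : F9).1 ^ 2 + ((1, 0) : F9).2 ^ 2) = 0 →
      a * ((-1, 0) : F9).1 + b * ((-1, 0) : F9).2 + c * (((-1, 0) : F9).1 ^ 2 + ((-1, 0) : F9).2 ^ 2) = 0 →
      a * ((0, 1) : F9).1 + b * ((0, 1) : F9).2 + c * (((0, 1) : F9).1 ^ 2 + ((0, 1) : F9).2 ^ 2) = 0 →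
      a = 0 ∧ b = 0 ∧ c = 0 := by decide
  obtain ⟨h5, h6, h7⟩ := hh a b c h1 h2 h3
  funext i
  fin_cases i
  · exact e0.trans h5
  · exact e1.trans h6
  · exact e2.trans h7

theorem not_le [Fintype F] (hF : Fintype.card F = 4) (H : Good ω) : ¬ PRankLE 3 2 (J3 F ω) := by
  obtain ⟨G⟩ := exists_gens hF H
  choose f hf using fun v => exists_el H G v
  refine not_quot_of_hom (V := Fin 3 → ZMod 3) (Subgroup.center (threeJ3 F ω))
    (MonoidHom.mk' (fun v => f (Multiplicative.toAdd v)) ?_) ?_ ?_ ?_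
  · intro v w
    refine mat_injective ?_
    show mat ω (f (Multiplicative.toAdd v + Multiplicative.toAdd w)) =
      mat ω (f (Multiplicative.toAdd v) * f (Multiplicative.toAdd w))
    rw [map_mul (mat ω), hf, hf, hf, dg_add H]
  · intro v hv
    refine dg_comm H fun W => ?_
    have h1 := (Subgroup.mem_center_iff.1 hv) (G.d W)
    have h2 := congrArg (mat ω) h1
    rw [map_mul, map_mul, G.hd] at h2
    have h3 : mat ω (f v) = dg ω v := hf v
    exact (h3 ▸ h2).symm
  · intro v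
    funext i
    simp [show (3 : ZMod 3) = 0 from rfl]
  · rw [Nat.card_eq_fintype_card, Fintype.card_fun, ZMod.card]
    decide

theorem row {X : Type*} [Group X] (h : Spor.IsoJ3 X) : ∃ p, p.Prime ∧ p ≠ 2 ∧ ¬ PRankLE p 2 X := by
  obtain ⟨F, _, _, ω, hF, hω, ⟨e⟩⟩ := h
  exact ⟨3, by norm_num, by norm_num, not_of_mulEquiv e (not_le hF (good_of_card hF hω))⟩

end Cfsg.Agent.Omega.SQK.J3Row
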